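import Groth.Agent.Lib.CohDelta.IdealMul.DevExt
import Groth.Agent.Lib.CohDelta.IdealMul.FinPush
import Groth.Agent.Lib.Ideal.Comap
import Groth.Agent.Lib.Snapper.Twist
import Mathlib.AlgebraicGeometry.FunctionField
import Mathlib.LinearAlgebra.Dimension.Constructions

/-!
# Generic trivialisation of direct images along finite morphisms onto integral schemes
-/

set_option autoImplicit false
set_option linter.style.haveILetI false
set_option linter.unusedSectionVars false
universe u

open CategoryTheory CategoryTheory.Limits AlgebraicGeometry Opposite TopologicalSpace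

namespace Groth.Agent.Lib.FinGenMap29

open Groth.Agent.Lib Groth.Agent.Lib.Modules.StalkModule Groth.Agent.Lib.CohDelta.IdealMul
open Groth.Agent.Lib.Devissage.Basic CohDelta.IdealMul.Sec CohDelta.IdealMul.DevExt

attribute [local instance] HasFiniteBiproducts.of_hasFiniteProducts

variable {X Y : Scheme.{u}}

/-- Sections of `f_*` of `(f⁻¹ I) M` lie in `I · f_* M`. -/
theorem range_push_le (f : X ⟶ Y) [IsAffineHom f] (I : Y.IdealSheafData) (M : X.Modules)
    [M.IsQuasicoherent] (W : Y.affineOpens) :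
    LinearMap.range (appL ((Scheme.Modules.pushforward f).map (Dual3.idealMulι (I.comap f) M)) W.1) ≤
      I.ideal W • (⊤ : Submodule Γ(Y, W.1) Γ((Scheme.Modules.pushforward f).obj M, W.1)) := by
  let O : X.affineOpens := ⟨f ⁻¹ᵁ W.1, W.2.preimage f⟩
  rintro _ ⟨s, rfl⟩
  have hs : appL (Dual3.idealMulι (I.comap f) M) O.1 s ∈
      (I.comap f).ideal O • (⊤ : Submodule Γ(X, O.1) Γ(M, O.1)) :=
    range_ι (I.comap f) M O ▸ ⟨s, rfl⟩
  have hJ : (I.comap f).ideal O = Ideal.map (f.app W.1).hom (I.ideal W) := by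
    rw [Ideal.Comap.ideal_comap f I W O le_rfl, Scheme.Hom.appLE_eq_app]
  let P : Submodule Γ(Y, W.1) Γ((Scheme.Modules.pushforward f).obj M, W.1) := I.ideal W • ⊤
  let Q : Γ(M, O.1) → Prop := fun t => (t : Γ((Scheme.Modules.pushforward f).obj M, W.1)) ∈ P
  change Q (appL (Dual3.idealMulι (I.comap f) M) O.1 s)
  rw [hJ] at hs
  refine Submodule.smul_induction_on (p := Q) hs ?_
    (fun a b ha hb => P.add_mem ha hb)
  intro c hc t ht
  clear ht
  revert t
  refine Submodule.span_induction ?_ ?_ ?_ ?_ hc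
  · rintro _ ⟨a, ha, rfl⟩ t
    let t' : Γ((Scheme.Modules.pushforward f).obj M, W.1) := t
    have h : a • t' ∈ P := Submodule.smul_mem_smul ha Submodule.mem_top
    exact h
  · intro t
    show Q _
    rw [zero_smul]
    exact P.zero_mem
  · intro a b _ _ ha hb t
    show Q _
    rw [add_smul]
    exact P.add_mem (ha t) (hb t)
  · intro b c _ hc t
    rw [smul_eq_mul, mul_comm, mul_smul]
    exact hc (b • t)

/-- `f_* ((f⁻¹ I) M) ⟶ f_* M` is bijective on stalks off `V(I)`. -/
theorem push_ι_bijective (f : X ⟶ Y) (I : Y.IdealSheafData) (n : ℕ) (M : X.Modules)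
    [M.IsQuasicoherent] {y : Y} (hy : y ∉ ((I ^ n).support : Set Y)) :
    Function.Bijective (stalkMapₗ ((Scheme.Modules.pushforward f).map
      (Dual3.idealMulι ((I ^ n).comap f) M)) y) := by
  haveI : (Scheme.Modules.pushforward f).IsRightAdjoint :=
    (Scheme.Modules.pullbackPushforwardAdjunction f).isRightAdjoint
  haveI : Mono ((Scheme.Modules.pushforward f).map (Dual3.idealMulι ((I ^ n).comap f) M)) :=
    inferInstance
  refine ⟨(mono_iff_stalkMapₗ_injective _).mp inferInstance y, fun v => ?_⟩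
  obtain ⟨W₀, hy₀, t₀, rfl⟩ :=
    TopCat.Presheaf.exists_germ_eq ((Scheme.Modules.pushforward f).obj M).presheaf v
  let W : Y.Opens := W₀ ⊓ ⟨((I ^ n).support : Set Y)ᶜ, (I ^ n).support.isClosed.isOpen_compl⟩
  have hle : W ≤ W₀ := inf_le_left
  have hyW : y ∈ W := ⟨hy₀, hy⟩
  rw [← TopCat.Presheaf.germ_res_apply _ (homOfLE hle) y hyW t₀]
  let t := ((Scheme.Modules.pushforward f).obj M).presheaf.map (homOfLE hle).op t₀
  let O : X.Opens := f ⁻¹ᵁ W
  haveI := DevExt.isIso_restrict (U := O) (Dual3.idealMulι ((I ^ n).comap f) M) fun x hx => by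
    have h1 := DevExt.stalk_ι_bijective ((I ^ n).comap f) M 1 (x := x) (by
      rw [Scheme.IdealSheafData.support_comap]; exact fun h => hx.2 h)
    rwa [pow_one] at h1
  have hb : Function.Bijective ((Dual3.idealMulι ((I ^ n).comap f) M).app (O.ι ''ᵁ ⊤)) :=
    ConcreteCategory.bijective_of_isIso (((Scheme.Modules.restrictFunctor O.ι).map
      (Dual3.idealMulι ((I ^ n).comap f) M)).app ⊤)
  rw [O.ι_image_top] at hb
  obtain ⟨s, hs⟩ := hb.2 t
  refine ⟨((Scheme.Modules.pushforward f).obj
    ((Dual3.idealMul ((I ^ n).comap f)).obj M)).presheaf.germ W y hyW s, ?_⟩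
  rw [stalkMapₗ_germ]
  exact congrArg _ hs

variable (f : X ⟶ Y) [IsFinite f] [IsNoetherian X] [IsNoetherian Y] [IsIntegral Y]

/-- A coherent module on `X` whose direct image is generically `d` copies of `F`, `d` the degree. -/
theorem exists_generic (F : Y.Modules) (hF : Coh.IsCoh F) :
    ∃ (G : X.Modules) (u : (Scheme.Modules.pushforward f).obj G ⟶
        ∐ fun _ : Fin (Module.finrank (Y.functionField)
            (((Scheme.Modules.pushforward f).obj (Coh.structureModule X)).presheaf.stalk (genericPoint Y))) => F),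
      Coh.IsCoh G ∧ ∃ V : Y.Opens, genericPoint Y ∈ V ∧
        IsIso ((Scheme.Modules.restrictFunctor V.ι).map u) := by
  classical
  letI instK : Field (Y.presheaf.stalk (genericPoint Y)) := inferInstanceAs (Field Y.functionField)
  let E := (Scheme.Modules.pushforward f).obj (Coh.structureModule X)
  have hO : Coh.IsCoh (Coh.structureModule X) := Snapper.Twist.isCoh_structureModule X
  have hE : Coh.IsCoh E := FinPush.isCoh_push f hO
  let y := genericPoint Y
  let d := Module.finrank (Y.functionField) (E.presheaf.stalk y)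
  let m := Module.finrank (Y.presheaf.stalk y) (F.presheaf.stalk y)
  let A : Fin m → X.Modules := fun _ => Coh.structureModule X
  let M₀ : X.Modules := ⨁ A
  have hM₀ : Coh.IsCoh M₀ := isCoh_biproduct A fun _ => hO
  haveI := hM₀.1
  haveI : (Scheme.Modules.pushforward f).IsRightAdjoint :=
    (Scheme.Modules.pullbackPushforwardAdjunction f).isRightAdjoint
  haveI : (Scheme.Modules.pushforward f).Additive :=
    (Scheme.Modules.pullbackPushforwardAdjunction f).right_adjoint_additive
  let P := (Scheme.Modules.pushforward f).obj M₀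
  have hP : Coh.IsCoh P := FinPush.isCoh_push f hM₀
  let FF : Fin d → Y.Modules := fun _ => F
  let c : (⨁ FF) ≅ (∐ FF) := biproduct.isoCoproduct FF
  have hB : Coh.IsCoh (∐ FF) :=
    CohBasics.Closure.isCoh_of_iso c (isCoh_biproduct FF fun _ => hF)
  haveI := hB.1
  haveI := hP.1
  haveI := hF.1
  haveI := hE.1
  haveI := hF.2
  haveI := hE.2
  haveI := Modules.GenStalk.finite_stalk F y
  haveI := Modules.GenStalk.finite_stalk E y
  let e₁ : (∐ FF).presheaf.stalk y →ₗ[Y.presheaf.stalk y] (Fin d → F.presheaf.stalk y) :=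
    (LinearMap.pi fun k => stalkMapₗ (biproduct.π FF k) y) ∘ₗ stalkMapₗ c.inv y
  have he₁ : Function.Bijective e₁ := (exists_stalk_biproduct FF y).comp
    ((isIso_iff_stalkMapₗ_bijective c.inv).mp inferInstance y)
  let cA : P ≅ ⨁ fun _ : Fin m => E := (Scheme.Modules.pushforward f).mapBiproduct A
  let e₂ : P.presheaf.stalk y →ₗ[Y.presheaf.stalk y] (Fin m → E.presheaf.stalk y) :=
    (LinearMap.pi fun k => stalkMapₗ (biproduct.π (fun _ : Fin m => E) k) y) ∘ₗ stalkMapₗ cA.hom y
  have he₂ : Function.Bijective e₂ := (exists_stalk_biproduct (fun _ : Fin m => E) y).comp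
    ((isIso_iff_stalkMapₗ_bijective cA.hom).mp inferInstance y)
  have hr : Module.finrank (Y.presheaf.stalk y) (Fin d → F.presheaf.stalk y) =
      Module.finrank (Y.presheaf.stalk y) (Fin m → E.presheaf.stalk y) := by
    rw [Module.finrank_pi_fintype, Module.finrank_pi_fintype]
    simp only [Finset.sum_const, Finset.card_univ, Fintype.card_fin, smul_eq_mul]
    exact Nat.mul_comm d m
  let e₃ := LinearEquiv.ofFinrankEq (R := Y.presheaf.stalk y) _ _ hr
  let lam : (∐ FF).presheaf.stalk y →ₗ[Y.presheaf.stalk y] P.presheaf.stalk y :=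
    (LinearEquiv.ofBijective e₂ he₂).symm.toLinearMap ∘ₗ e₃.toLinearMap ∘ₗ e₁
  have hlam : Function.Bijective lam :=
    (LinearEquiv.ofBijective e₂ he₂).symm.bijective.comp (e₃.bijective.comp he₁)
  obtain ⟨M, α, β, hM, -, hβy, hαβ⟩ := H52.DevSummand.bridge hB hP y lam hlam.2
    fun a ha l => by
      have h0 : a = 0 := by
        by_contra h
        exact ha (IsUnit.mk0 a h)
      rw [h0, zero_smul]
  have hαy : Function.Bijective (stalkMapₗ α y) := by
    rw [show ⇑(stalkMapₗ α y) = stalkMapₗ β y ∘ lam from funext hαβ]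
    exact hβy.comp hlam
  haveI := hM.1.1
  let C : Set Y := (CohB1.support (kernel α) ∪ CohB1.support (cokernel α)) ∪
    (CohB1.support (kernel β) ∪ CohB1.support (cokernel β))
  haveI := (CohBasics.Closure.isCoh_kernel α hB hM.1.1).2
  haveI := (CohBasics.Closure.isCoh_cokernel α hB.1 hM.1).2
  haveI := (CohBasics.Closure.isCoh_kernel β hP hM.1.1).2
  haveI := (CohBasics.Closure.isCoh_cokernel β hP.1 hM.1).2
  have hC : IsClosed C := ((Modules.Support.isClosed_support _).union
    (Modules.Support.isClosed_support _)).union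
    ((Modules.Support.isClosed_support _).union (Modules.Support.isClosed_support _))
  have hyC : y ∉ C := by
    rintro ((h | h) | (h | h))
    exacts [H52.DevSummand.not_mem_support_kernel α hαy.1 h,
      H52.DevSummand.not_mem_support_cokernel α hαy.2 h,
      H52.DevSummand.not_mem_support_kernel β hβy.1 h,
      H52.DevSummand.not_mem_support_cokernel β hβy.2 h]
  let U : Y.Opens := ⟨Cᶜ, hC.isOpen_compl⟩
  let I := Scheme.IdealSheafData.vanishingIdeal (⟨C, hC⟩ : Closeds Y)
  have hI : (I.support : Set Y) = C := by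
    rw [Scheme.IdealSheafData.coe_support_vanishingIdeal]; rfl
  have hU : (U : Set Y) = (I.support : Set Y)ᶜ := by rw [hI]; rfl
  have bij : ∀ {Q R : Y.Modules} (g : Q ⟶ R) (U : Y.Opens),
      (∀ x ∈ U, x ∉ CohB1.support (kernel g) ∧ x ∉ CohB1.support (cokernel g)) →
      IsIso ((Scheme.Modules.restrictFunctor U.ι).map g) := by
    intro Q R g U h
    refine DevExt.isIso_restrict g fun x hx => ?_
    have hk' : Subsingleton ((kernel g).presheaf.stalk x) :=
      Modules.Support.not_mem_support_iff.mp (h x hx).1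
    have hc' : Subsingleton ((cokernel g).presheaf.stalk x) :=
      Modules.Support.not_mem_support_iff.mp (h x hx).2
    refine ⟨(injective_iff_map_eq_zero _).mpr fun v hv => ?_, fun w => ?_⟩
    · obtain ⟨z, rfl⟩ := H52.DevSummand.eq_stalk_kernel g v hv
      rw [Subsingleton.elim z 0, map_zero]
    · exact (ShortComplex.ab_exact_iff _).mp ((Modules.Stalk.exact_iff_stalk
        (ShortComplex.mk g (cokernel.π g) (cokernel.condition g))).mp
          (ShortComplex.exact_cokernel g) x) w (@Subsingleton.elim _ hc' _ _)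
  haveI := bij α U fun x hx => ⟨fun h => hx (Or.inl (Or.inl h)), fun h => hx (Or.inl (Or.inr h))⟩
  haveI := bij β U fun x hx => ⟨fun h => hx (Or.inr (Or.inl h)), fun h => hx (Or.inr (Or.inr h))⟩
  let R := Scheme.Modules.restrictFunctor U.ι
  obtain ⟨n, ψ, -, hψy⟩ := exists_mono_ext I hP (B := ∐ FF) hU (R.map β ≫ inv (R.map α))
  let G := (Dual3.idealMul ((I ^ n).comap f)).obj M₀
  have hG : Coh.IsCoh G := isCoh_idealMul ((I ^ n).comap f) hM₀
  haveI := hG.1
  haveI : ((Scheme.Modules.pushforward f).obj G).IsQuasicoherent :=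
    (FinPush.isCoh_push f hG).1
  obtain ⟨l, hl⟩ := Sec.exists_lift (Dual3.idealMulι (I ^ n) P)
    ((Scheme.Modules.pushforward f).map (Dual3.idealMulι ((I ^ n).comap f) M₀)) fun x => by
      obtain ⟨W, hW, hx, -⟩ := exists_isAffineOpen_mem_and_subset (U := (⊤ : Y.Opens)) (x := x) trivial
      refine ⟨W, hW, hx, ?_⟩
      rw [range_ι (I ^ n) P ⟨W, hW⟩]
      exact range_push_le f (I ^ n) M₀ ⟨W, hW⟩
  have hyI : y ∉ (I.support : Set Y) := hI ▸ hyC
  have hyIn : y ∉ ((I ^ n).support : Set Y) := fun h => by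
    rcases n with _ | k
    · rw [pow_zero] at h
      simp at h
    · rw [Scheme.IdealSheafData.support_pow_succ] at h
      exact hyI h
  have hly : Function.Bijective (stalkMapₗ l y) := by
    have h1 := push_ι_bijective f I n M₀ hyIn
    rw [← hl, stalkMapₗ_comp, LinearMap.coe_comp] at h1
    exact ((DevExt.stalk_ι_bijective I P n hyI).of_comp_iff' _).mp h1
  have huy : Function.Bijective (stalkMapₗ (l ≫ ψ) y) := by
    rw [stalkMapₗ_comp, LinearMap.coe_comp]
    exact (hψy y hyC).comp hly
  have hfG : Coh.IsCoh ((Scheme.Modules.pushforward f).obj G) := FinPush.isCoh_push f hG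
  haveI := (CohBasics.Closure.isCoh_kernel (l ≫ ψ) hfG hB.1).2
  haveI := (CohBasics.Closure.isCoh_cokernel (l ≫ ψ) hfG.1 hB).2
  let V : Y.Opens := ⟨(CohB1.support (kernel (l ≫ ψ)) ∪ CohB1.support (cokernel (l ≫ ψ)))ᶜ,
    ((Modules.Support.isClosed_support _).union (Modules.Support.isClosed_support _)).isOpen_compl⟩
  refine ⟨G, l ≫ ψ, hG, V, ?_, bij _ V fun x hx => ⟨fun h => hx (Or.inl h), fun h => hx (Or.inr h)⟩⟩
  rintro (h | h)
  exacts [H52.DevSummand.not_mem_support_kernel _ huy.1 h,
    H52.DevSummand.not_mem_support_cokernel _ huy.2 h]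

end Groth.Agent.Lib.FinGenMap29
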